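import Mathlib.RingTheory.LocalRing.Module
import Mathlib.LinearAlgebra.TensorProduct.Quotient

/-!
# Maps of free modules over a local ring which are injective modulo the maximal ideal
-/

set_option autoImplicit false
universe u v

open TensorProduct IsLocalRing

namespace Groth.Agent.H8Props.InjModMaxFree

variable {R : Type u} [CommRing R] [IsLocalRing R]

theorem one_tmul_eq_zero_iff {M : Type v} [AddCommGroup M] [Module R M] (x : M) :
    (1 : ResidueField R) ⊗ₜ[R] x = 0 ↔ x ∈ maximalIdeal R • (⊤ : Submodule R M) := by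
  refine ((quotTensorEquivQuotSMul M (maximalIdeal R)).map_eq_zero_iff.symm.trans ?_).trans
    (Submodule.Quotient.mk_eq_zero _)
  change quotTensorEquivQuotSMul M (maximalIdeal R) (Ideal.Quotient.mk (maximalIdeal R) 1 ⊗ₜ x) = 0 ↔ _
  rw [quotTensorEquivQuotSMul_mk_tmul, one_smul]

theorem exists_one_tmul {M : Type v} [AddCommGroup M] [Module R M] (z : ResidueField R ⊗[R] M) :
    ∃ x, (1 : ResidueField R) ⊗ₜ[R] x = z := by
  induction z using TensorProduct.induction_on with
  | zero => exact ⟨0, tmul_zero _ _⟩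
  | tmul a x =>
    obtain ⟨r, rfl⟩ := IsLocalRing.residue_surjective a
    exact ⟨r • x, by rw [tmul_smul, smul_tmul', Algebra.smul_def, mul_one]; rfl⟩
  | add a b ha hb =>
    obtain ⟨x, rfl⟩ := ha
    obtain ⟨y, rfl⟩ := hb
    exact ⟨x + y, tmul_add _ _ _⟩

theorem lTensor_injective_of_modMax {M N : Type v} [AddCommGroup M] [Module R M] [AddCommGroup N]
    [Module R N] (u : M →ₗ[R] N)
    (h : ∀ x, u x ∈ maximalIdeal R • (⊤ : Submodule R N) → x ∈ maximalIdeal R • (⊤ : Submodule R M)) :
    Function.Injective (u.lTensor (ResidueField R)) := by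
  refine (injective_iff_map_eq_zero _).2 fun z hz => ?_
  obtain ⟨x, rfl⟩ := exists_one_tmul z
  rw [LinearMap.lTensor_tmul, one_tmul_eq_zero_iff] at hz
  exact (one_tmul_eq_zero_iff x).2 (h x hz)

/-- A map of free modules over a local ring which is injective modulo the maximal ideal is
universally injective. -/
theorem lTensor_injective {M N : Type v} [AddCommGroup M] [Module R M] [AddCommGroup N] [Module R N]
    [Module.Free R M] [Module.Free R N] (u : M →ₗ[R] N)
    (h : Function.Injective (u.lTensor (ResidueField R))) (Q : Type*) [AddCommGroup Q] [Module R Q] :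
    Function.Injective (u.lTensor Q) := by
  classical
  let b := Module.Free.chooseBasis R M
  let c := Module.Free.chooseBasis R N
  let inc : ∀ T : Finset (Module.Free.ChooseBasisIndex R M), (T →₀ R) →ₗ[R] M :=
    fun T => Finsupp.linearCombination R (fun i : T => b i)
  let inc' : ∀ T : Finset (Module.Free.ChooseBasisIndex R N), (T →₀ R) →ₗ[R] N :=
    fun T => Finsupp.linearCombination R (fun i : T => c i)
  have hinc : ∀ T, ∃ π, π ∘ₗ inc T = LinearMap.id := fun T =>
    ⟨b.constr R fun i => if hi : i ∈ T then Finsupp.single ⟨i, hi⟩ 1 else 0,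
      Finsupp.lhom_ext' fun i => LinearMap.ext_ring (by simp [inc])⟩
  have hinc' : ∀ T, ∃ π, π ∘ₗ inc' T = LinearMap.id := fun T =>
    ⟨c.constr R fun i => if hi : i ∈ T then Finsupp.single ⟨i, hi⟩ 1 else 0,
      Finsupp.lhom_ext' fun i => LinearMap.ext_ring (by simp [inc'])⟩
  have hinj : ∀ T, Function.Injective ((inc T).lTensor (ResidueField R)) := fun T => by
    obtain ⟨π, hπ⟩ := hinc T
    exact Function.HasLeftInverse.injective ⟨π.lTensor _, LinearMap.congr_fun
      (by rw [← LinearMap.lTensor_comp, hπ, LinearMap.lTensor_id] :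
        π.lTensor (ResidueField R) ∘ₗ (inc T).lTensor (ResidueField R) = LinearMap.id)⟩
  have hcover : ∀ z : Q ⊗[R] M, ∃ T, z ∈ LinearMap.range ((inc T).lTensor Q) := by
    intro z
    induction z using TensorProduct.induction_on with
    | zero => exact ⟨∅, Submodule.zero_mem _⟩
    | tmul q x =>
      refine ⟨(b.repr x).support, q ⊗ₜ ∑ i : (b.repr x).support, Finsupp.single i (b.repr x i), ?_⟩
      rw [LinearMap.lTensor_tmul]
      congr 1
      simp only [inc, map_sum, Finsupp.linearCombination_single]
      rw [Finset.sum_coe_sort (b.repr x).support fun i => b.repr x i • b i]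
      exact b.linearCombination_repr x
    | add z w hz hw =>
      obtain ⟨T₁, hz⟩ := hz
      obtain ⟨T₂, hw⟩ := hw
      have key : ∀ T T' : Finset _, T ⊆ T' →
          LinearMap.range ((inc T).lTensor Q) ≤ LinearMap.range ((inc T').lTensor Q) := by
        intro T T' hT
        have : inc T = inc T' ∘ₗ Finsupp.lmapDomain R R (fun i : T => (⟨i.1, hT i.2⟩ : T')) :=
          Finsupp.lhom_ext' fun i => LinearMap.ext_ring (by simp [inc])
        rw [this, LinearMap.lTensor_comp]
        exact LinearMap.range_comp_le_range _ _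
      exact ⟨T₁ ∪ T₂, add_mem (key _ _ Finset.subset_union_left hz) (key _ _ Finset.subset_union_right hw)⟩
  refine (injective_iff_map_eq_zero _).2 fun z hz => ?_
  obtain ⟨T, w, rfl⟩ := hcover z
  let T' : Finset (Module.Free.ChooseBasisIndex R N) := T.biUnion fun i => (c.repr (u (b i))).support
  obtain ⟨π', hπ'⟩ := hinc' T'
  let l : (T →₀ R) →ₗ[R] (T' →₀ R) := π' ∘ₗ u ∘ₗ inc T
  have hl : inc' T' ∘ₗ l = u ∘ₗ inc T := by
    have hmem : ∀ i : T, u (b i) ∈ LinearMap.range (inc' T') := fun i => by
      rw [← c.linearCombination_repr (u (b i)), Finsupp.linearCombination_apply]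
      refine Submodule.sum_mem _ fun j hj => Submodule.smul_mem _ _ ?_
      exact ⟨Finsupp.single ⟨j, Finset.mem_biUnion.2 ⟨i.1, i.2, hj⟩⟩ 1, by simp [inc']⟩
    refine Finsupp.lhom_ext' fun i => LinearMap.ext_ring ?_
    obtain ⟨v, hv⟩ := hmem i
    have : π' (inc' T' v) = v := LinearMap.congr_fun hπ' v
    simp [l, inc, ← hv, this]
  obtain ⟨l', hl'⟩ := (split_injective_iff_lTensor_residueField_injective l).2 (by
    have hi : Function.Injective ((inc' T').lTensor (ResidueField R) ∘ₗ l.lTensor (ResidueField R)) := by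
      rw [← LinearMap.lTensor_comp, hl, LinearMap.lTensor_comp, LinearMap.coe_comp]
      exact h.comp (hinj T)
    rw [LinearMap.coe_comp] at hi
    exact hi.of_comp)
  have hz' : (inc' T').lTensor Q (l.lTensor Q w) = 0 := by
    rw [← LinearMap.lTensor_comp_apply, hl, LinearMap.lTensor_comp_apply, hz]
  have h1 : l.lTensor Q w = 0 := by
    have := congrArg (π'.lTensor Q) hz'
    rwa [← LinearMap.comp_apply, ← LinearMap.lTensor_comp, hπ', LinearMap.lTensor_id, map_zero] at this
  have h2 : w = 0 := by
    have := congrArg (l'.lTensor Q) h1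
    rwa [← LinearMap.comp_apply, ← LinearMap.lTensor_comp, hl', LinearMap.lTensor_id, map_zero] at this
  rw [h2, map_zero]

end Groth.Agent.H8Props.InjModMaxFree
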